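import Cfsg.Agent.HNRec.Amalgam.Enum.CoverDefs

/-! Generated by tools/dcoset/emit.py: cover checks. -/

set_option Elab.async false
set_option maxRecDepth 100000

namespace Cfsg.Agent.HNRec.Amalgam.Enum

open Cfsg.Agent.DCoset Cfsg.Agent.CosetCert

theorem u_all : allFrom (Cover.checkU cover rules tab) 0 10 = true := by
  decide +kernel

theorem tr_all_c0 : allFrom (Cover.checkTr cover tab) 0 275 = true := by
  decide +kernel

theorem tr_all_c1 : allFrom (Cover.checkTr cover tab) 275 275 = true := by
  decide +kernel

theorem tr_all_c2 : allFrom (Cover.checkTr cover tab) 550 275 = true := by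
  decide +kernel

theorem tr_all_c3 : allFrom (Cover.checkTr cover tab) 825 275 = true := by
  decide +kernel

theorem tr_all_c4 : allFrom (Cover.checkTr cover tab) 1100 275 = true := by
  decide +kernel

theorem tr_all_c5 : allFrom (Cover.checkTr cover tab) 1375 275 = true := by
  decide +kernel

theorem tr_all_c6 : allFrom (Cover.checkTr cover tab) 1650 275 = true := by
  decide +kernel

theorem tr_all_c7 : allFrom (Cover.checkTr cover tab) 1925 275 = true := by
  decide +kernel

theorem tr_all : allFrom (Cover.checkTr cover tab) 0 2200 = true :=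
  allFrom_append (n := 275) 1925 (allFrom_append (n := 275) 1650 (allFrom_append (n := 275) 1375 (allFrom_append (n := 275) 1100 (allFrom_append (n := 275) 825 (allFrom_append (n := 275) 550 (allFrom_append (n := 275) 275 tr_all_c0 tr_all_c1) tr_all_c2) tr_all_c3) tr_all_c4) tr_all_c5) tr_all_c6) tr_all_c7

theorem stab_all :
    allFrom (fun m => allFrom (Cover.checkStab cover steps tab m) 0 (nStab m)) 0 9 = true := by
  decide +kernel

theorem bounds_all : allFrom (fun m => allFrom (fun l =>
    Nat.ble (Nat.add (chOff (Nat.add (Nat.mul m 6) l)) (chCnt (Nat.add (Nat.mul m 6) l))) (nStab m))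
    0 6) 0 9 = true := by
  decide +kernel

theorem src_all : allFrom (fun j => Nat.blt (nodeSrc j) j) 1 156 = true := by
  decide +kernel

end Cfsg.Agent.HNRec.Amalgam.Enum
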