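import Cfsg.Agent.HNRec.Amalgam.Enum.CoverDefs

/-! Generated by tools/dcoset/emit.py: forests and chains. -/

set_option Elab.async false
set_option maxRecDepth 100000

namespace Cfsg.Agent.HNRec.Amalgam.Enum

open Cfsg.Agent.DCoset Cfsg.Agent.CosetCert

theorem point_3_c0 : allFrom (Cover.checkPoint cover steps rules tab 3) 0 275 = true := by
  decide +kernel

theorem point_3_c1 : allFrom (Cover.checkPoint cover steps rules tab 3) 275 275 = true := by
  decide +kernel

theorem point_3_c2 : allFrom (Cover.checkPoint cover steps rules tab 3) 550 275 = true := by
  decide +kernel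

theorem point_3_c3 : allFrom (Cover.checkPoint cover steps rules tab 3) 825 275 = true := by
  decide +kernel

theorem point_3_c4 : allFrom (Cover.checkPoint cover steps rules tab 3) 1100 275 = true := by
  decide +kernel

theorem point_3_c5 : allFrom (Cover.checkPoint cover steps rules tab 3) 1375 275 = true := by
  decide +kernel

theorem point_3_c6 : allFrom (Cover.checkPoint cover steps rules tab 3) 1650 275 = true := by
  decide +kernel

theorem point_3_c7 : allFrom (Cover.checkPoint cover steps rules tab 3) 1925 275 = true := by
  decide +kernel

theorem point_3 : allFrom (Cover.checkPoint cover steps rules tab 3) 0 2200 = true :=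
  allFrom_append (n := 275) 1925 (allFrom_append (n := 275) 1650 (allFrom_append (n := 275) 1375 (allFrom_append (n := 275) 1100 (allFrom_append (n := 275) 825 (allFrom_append (n := 275) 550 (allFrom_append (n := 275) 275 point_3_c0 point_3_c1) point_3_c2) point_3_c3) point_3_c4) point_3_c5) point_3_c6) point_3_c7

theorem gen_3 : allFrom (fun l => allFrom (QModel.checkGen tab (chainOf 3) l) 0 ((chainOf 3).nGen l)) 0 6 = true := by
  decide +kernel

theorem pt_3 : allFrom (fun l => allFrom (QModel.checkPt tab (chainOf 3) l) 0 ((chainOf 3).size l)) 0 6 = true := by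
  decide +kernel

end Cfsg.Agent.HNRec.Amalgam.Enum
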