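import Cfsg.Agent.HNRec.Amalgam.Enum.Table

/-! Generated by tools/dcoset/emit.py: rules and relators. -/

set_option Elab.async false

namespace Cfsg.Agent.HNRec.Amalgam.Enum

open Cfsg.Agent.DCoset Cfsg.Agent.CosetCert

def rSS : Store := (.leaf 0x1000100010001000100010001000100010001000000000000000000000000)

noncomputable def rS : Nat → Nat := get16 rSS

def rDS : Store := (.leaf 0x1000100010001000100010001000100010001000000000000000000000000)

noncomputable def rD : Nat → Nat := get16 rDS

def rUS : Store := (.node 12 (.node 6 (.node 3 (.node 1 (.leaf 0x1) (.node 2 (.leaf 0x10001) (.leaf 0x20001))) (.node 4 (.leaf 0x30001) (.node 5 (.leaf 0x40001) (.leaf 0x50001)))) (.node 9 (.node 7 (.leaf 0x40001) (.node 8 (.leaf 0x2) (.leaf 0x5010102030005000008))) (.node 10 (.leaf 0x103050200010005010300000b) (.node 11 (.leaf 0x103010200010001010300000b) (.leaf 0x10301030001040004030103000c))))) (.node 18 (.node 15 (.node 13 (.leaf 0x1040102030000040008) (.node 14 (.leaf 0x102000401000103040200000b) (.leaf 0x102000001000103000200000b))) (.node 16 (.leaf 0x20002050105000102000200000c) (.node 17 (.leaf 0x2) (.leaf 0x5010102030005000008))))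 (.node 21 (.node 19 (.leaf 0x103050200010005010300000b) (.node 20 (.leaf 0x103010200010001010300000b) (.leaf 0x10301030001040004030103000c))) (.node 23 (.node 22 (.leaf 0x1040102030000040008) (.leaf 0x102000401000103040200000b)) (.node 24 (.leaf 0x102000001000103000200000b) (.leaf 0x20002050105000102000200000c))))))

def rVS : Store := (.node 12 (.node 6 (.node 3 (.node 1 (.leaf 0x1) (.node 2 (.leaf 0x10001) (.leaf 0x20001))) (.node 4 (.leaf 0x30001) (.node 5 (.leaf 0x40001) (.leaf 0x50001)))) (.node 9 (.node 7 (.leaf 0x2) (.node 8 (.leaf 0x40001) (.leaf 0x40001))) (.node 10 (.leaf 0x103050200010005010300000b) (.node 11 (.leaf 0x103010200010001010300000004000e) (.leaf 0x1030502000100050103000103010300010400040301030103050200010005010300010305020001000501030001030502000100050103000038))))) (.node 18 (.node 15 (.node 13 (.leaf 0x50001) (.node 14 (.leaf 0x102000401000103040200000b) (.leaf 0x501010102000001000103000200000e))) (.node 16 (.leaf 0x1020004010001030402000102000401000103040200010200040100010304020002000205010500010200020001020004010001030402000038) (.node 17 (.leaf 0x2) (.leaf 0x5010102030005000008)))) (.node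 21 (.node 19 (.leaf 0x103050200010005010300000b) (.node 20 (.leaf 0x103010200010001010300000b) (.leaf 0x10301030001040004030103000c))) (.node 23 (.node 22 (.leaf 0x1040102030000040008) (.leaf 0x102000401000103040200000b)) (.node 24 (.leaf 0x102000001000103000200000b) (.leaf 0x20002050105000102000200000c))))))

def invTS : Store := (.leaf 0x10000)

noncomputable def invT : Nat → Nat := get16 invTS

def mulTS : Store := (.leaf 0x1000200020001)

noncomputable def mulT : Nat → Nat := get16 mulTS

def relHdS : Store := (.leaf 0x10001)

noncomputable def relHd : Nat → Nat := get16 relHdS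

def relLenS : Store := (.leaf 0x20002)

noncomputable def relLen : Nat → Nat := get16 relLenS

def relWS : Store := (.node 2 (.node 1 (.leaf 0x1) (.leaf 0x10001)) (.node 3 (.leaf 0x3040002000005) (.leaf 0x1030105020005)))

def relTS : Store := (.leaf 0x1000100010001)

noncomputable def relT : Nat → Nat := get16 relTS

def relTlS : Store := (.node 1 (.leaf 0x40002) (.leaf 0x30400020001030103000104000403010301030102000100010103000103010300010400040301030103010200010001010300010301020001000101030001030102000100010103000103010200010001010300010301020001000101030001030103000104000403010304006c))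

/-- The rules and relators. -/
noncomputable def rules : Rules where
  nT := 2
  invT := invT
  mulT a b := mulT (Nat.add (Nat.mul a 2) b)
  nRule := 25
  rS := rS
  rD := rD
  rU := rUS.get
  rV := rVS.get
  nRel := 2
  relHd := relHd
  relLen := relLen
  relW r m := relWS.get (Nat.add (Nat.mul r 2) m)
  relT r m := relT (Nat.add (Nat.mul r 2) m)
  relTl := relTlS.get

end Cfsg.Agent.HNRec.Amalgam.Enum
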