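import Cfsg.Agent.DCoset.HN.Table

/-! The permutation table of the centraliser is the one of the double coset count. -/

set_option autoImplicit false

namespace Cfsg.Agent.HNRec.Amalgam.Enum

/-- The letters as permutations of 1408 points, and the base. -/
noncomputable abbrev tab : Cfsg.Agent.DCoset.Tab := Cfsg.Agent.DCoset.HN.tab

end Cfsg.Agent.HNRec.Amalgam.Enum
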